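import Groth.Agent.RDerLES.Horseshoe

/-!
# The long exact sequence of right derived functors
-/

noncomputable section

universe v u v' u'

open CategoryTheory Limits

namespace Groth.Agent.RDerLES

section

variable {C : Type u} [Category.{v} C] [Abelian C]

/-- An object is the degree zero homology of any injective resolution of it. -/
def augIso {X : C} (I : InjectiveResolution X) : X ≅ I.cocomplex.homology 0 :=
  ((HomologicalComplex.homologyFunctorSingleIso C (ComplexShape.up ℕ) 0).app X).symm ≪≫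
    @asIso _ _ _ _ (HomologicalComplex.homologyMap I.ι 0)
      ((quasiIsoAt_iff_isIso_homologyMap I.ι 0).mp inferInstance)

lemma augIso_naturality {X Y : C} (f : X ⟶ Y) {I : InjectiveResolution X}
    {J : InjectiveResolution Y} (φ : I.cocomplex ⟶ J.cocomplex)
    (w : I.ι ≫ φ = (CochainComplex.single₀ C).map f ≫ J.ι) :
    (augIso I).hom ≫ HomologicalComplex.homologyMap φ 0 = f ≫ (augIso J).hom := by
  simp only [augIso, Iso.trans_hom, Iso.symm_hom, Iso.app_inv, asIso_hom, Category.assoc]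
  erw [← HomologicalComplex.homologyMap_comp, w, HomologicalComplex.homologyMap_comp]
  exact ((HomologicalComplex.homologyFunctorSingleIso C (ComplexShape.up ℕ) 0).inv.naturality_assoc
    f _).symm

/-- A short complex with an injective resolution is short exact. -/
lemma shortExact_of_sesRes {S : ShortComplex C} (T : RDer.SESRes S) : S.ShortExact := by
  have e₁ := augIso_naturality S.f T.f T.ι_f
  have e₂ := augIso_naturality S.g T.g T.ι_g
  refine { exact := ?_, mono_f := ?_, epi_g := ?_ }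
  · refine (ShortComplex.exact_iff_of_iso ?_).mpr (T.shortExact.homology_exact₂ 0)
    exact ShortComplex.isoMk (augIso T.I₁) (augIso T.I₂) (augIso T.I₃) e₁ e₂
  · have := aug_f T
    haveI := (T.shortExact.map_of_exact (HomologicalComplex.eval C _ 0)).mono_f
    haveI : Mono (T.f.f 0) := this
    have h : Mono (S.f ≫ aug T.I₂) := by rw [← aug_f T]; infer_instance
    exact mono_of_mono S.f (aug T.I₂)
  · have h0 : IsZero (T.I₁.cocomplex.homology 1) :=
      (HomologicalComplex.exactAt_iff_isZero_homology _ _).mp (T.I₁.cocomplex_exactAt_succ 0)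
    haveI : Epi (HomologicalComplex.homologyMap T.g 0) :=
      (T.shortExact.homology_exact₃ 0 1 rfl).epi_f (h0.eq_of_tgt _ _)
    have : S.g = (augIso T.I₂).hom ≫ HomologicalComplex.homologyMap T.g 0 ≫ (augIso T.I₃).inv := by
      rw [← Category.assoc, e₂, Category.assoc, Iso.hom_inv_id, Category.comp_id]
    rw [this]
    infer_instance

end

variable {C : Type u} [Category.{v} C] [Abelian C] [HasInjectiveResolutions C] {D : Type u'}
  [Category.{v'} D] [Abelian D] (F : C ⥤ D) [F.Additive]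

lemma map_f_iso {S : ShortComplex C} (T : RDer.SESRes S) (n : ℕ) :
    (F.rightDerived n).map S.f ≫ (T.I₂.isoRightDerivedObj F n).hom =
      (T.I₁.isoRightDerivedObj F n).hom ≫
        HomologicalComplex.homologyMap ((F.mapHomologicalComplex _).map T.f) n :=
  InjectiveResolution.isoRightDerivedObj_hom_naturality S.f T.I₁ T.I₂ T.f (aug_f T) F n

lemma map_g_iso {S : ShortComplex C} (T : RDer.SESRes S) (n : ℕ) :
    (F.rightDerived n).map S.g ≫ (T.I₃.isoRightDerivedObj F n).hom =
      (T.I₂.isoRightDerivedObj F n).hom ≫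
        HomologicalComplex.homologyMap ((F.mapHomologicalComplex _).map T.g) n :=
  InjectiveResolution.isoRightDerivedObj_hom_naturality S.g T.I₂ T.I₃ T.g (aug_g T) F n

lemma exact₂ {S : ShortComplex C} (T : RDer.SESRes S) (n : ℕ)
    (w : (F.rightDerived n).map S.f ≫ (F.rightDerived n).map S.g = 0) :
    (ShortComplex.mk _ _ w).Exact := by
  refine (ShortComplex.exact_iff_of_iso ?_).mpr
    ((T.map_shortExact F).homology_exact₂ n)
  exact ShortComplex.isoMk (T.I₁.isoRightDerivedObj F n) (T.I₂.isoRightDerivedObj F n)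
    (T.I₃.isoRightDerivedObj F n) (map_f_iso F T n).symm (map_g_iso F T n).symm

lemma comp_delta {S : ShortComplex C} (T : RDer.SESRes S) (n₀ n₁ : ℕ) (h : n₀ + 1 = n₁) :
    (F.rightDerived n₀).map S.g ≫ T.delta F n₀ n₁ h = 0 := by
  unfold RDer.SESRes.delta
  erw [← Category.assoc, map_g_iso F T n₀, Category.assoc,
    reassoc_of% ((T.map_shortExact F).comp_δ n₀ n₁ h)]
  simp
  all_goals rfl

lemma exact₃ {S : ShortComplex C} (T : RDer.SESRes S) (n₀ n₁ : ℕ) (h : n₀ + 1 = n₁) :
    (ShortComplex.mk _ _ (comp_delta F T n₀ n₁ h)).Exact := by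
  refine (ShortComplex.exact_iff_of_iso ?_).mpr ((T.map_shortExact F).homology_exact₃ n₀ n₁ h)
  exact ShortComplex.isoMk (T.I₂.isoRightDerivedObj F n₀) (T.I₃.isoRightDerivedObj F n₀)
    (T.I₁.isoRightDerivedObj F n₁) (map_g_iso F T n₀).symm
    (T.delta_comp_isoRightDerivedObj_hom F n₀ n₁ h).symm

lemma delta_comp {S : ShortComplex C} (T : RDer.SESRes S) (n₀ n₁ : ℕ) (h : n₀ + 1 = n₁) :
    T.delta F n₀ n₁ h ≫ (F.rightDerived n₁).map S.f = 0 := by
  rw [← cancel_mono (T.I₂.isoRightDerivedObj F n₁).hom, Category.assoc, map_f_iso F T n₁,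
    zero_comp]
  erw [reassoc_of% (T.delta_comp_isoRightDerivedObj_hom F n₀ n₁ h)]
  refine (Category.assoc _ _ _).trans ?_
  erw [(T.map_shortExact F).δ_comp n₀ n₁ h, comp_zero]

lemma exact₁ {S : ShortComplex C} (T : RDer.SESRes S) (n₀ n₁ : ℕ) (h : n₀ + 1 = n₁) :
    (ShortComplex.mk _ _ (delta_comp F T n₀ n₁ h)).Exact := by
  refine (ShortComplex.exact_iff_of_iso ?_).mpr ((T.map_shortExact F).homology_exact₁ n₀ n₁ h)
  exact ShortComplex.isoMk (T.I₃.isoRightDerivedObj F n₀) (T.I₁.isoRightDerivedObj F n₁)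
    (T.I₂.isoRightDerivedObj F n₁) (T.delta_comp_isoRightDerivedObj_hom F n₀ n₁ h).symm
    (map_f_iso F T n₁).symm

/-- The connecting morphisms of the right derived functors. -/
def derivedLES : RDer.DerivedLES F where
  δ _ hS n₀ n₁ h := (nonempty_sesRes hS).some.delta F n₀ n₁ h
  δ_eq _ hS T n₀ n₁ h := delta_eq F hS _ T n₀ n₁ h
  δ_natural hS _ φ n₀ n₁ h := delta_naturality F hS _ _ φ n₀ n₁ h
  exact₂ _ hS n := exact₂ F (nonempty_sesRes hS).some n _
  comp_δ _ hS n₀ n₁ h := comp_delta F _ n₀ n₁ h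
  exact₃ _ hS n₀ n₁ h := exact₃ F _ n₀ n₁ h
  δ_comp _ hS n₀ n₁ h := delta_comp F _ n₀ n₁ h
  exact₁ _ hS n₀ n₁ h := exact₁ F _ n₀ n₁ h

end Groth.Agent.RDerLES
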