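import Groth.Agent.RDerLES.Lift
import Mathlib.CategoryTheory.Abelian.Refinements

/-!
# The horseshoe lemma
-/

noncomputable section

universe v u

open CategoryTheory Limits

namespace Groth.Agent.RDerLES

variable {C : Type u} [Category.{v} C] [Abelian C] {S : ShortComplex C}

section

variable (I₁ : InjectiveResolution S.X₁) (I₃ : InjectiveResolution S.X₃)

/-- Twisting data in one degree. -/
structure Th (n : ℕ) where
  /-- the twist -/
  θ : I₃.cocomplex.X n ⟶ I₁.cocomplex.X (n + 1)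
  W : C
  w : W ⟶ I₃.cocomplex.X n
  hw : w ≫ I₃.cocomplex.d n (n + 1) = 0
  hex : (ShortComplex.mk w (I₃.cocomplex.d n (n + 1)) hw).Exact
  cond : w ≫ θ ≫ I₁.cocomplex.d (n + 1) (n + 2) = 0

lemma Th.exists_next {n : ℕ} (T : Th I₁ I₃ n) :
    ∃ T' : Th I₁ I₃ (n + 1),
      I₃.cocomplex.d n (n + 1) ≫ T'.θ = -(T.θ ≫ I₁.cocomplex.d (n + 1) (n + 2)) := by
  haveI := I₁.injective (n + 2)
  have he : T.w ≫ (-(T.θ ≫ I₁.cocomplex.d (n + 1) (n + 2))) = 0 := by
    rw [Preadditive.comp_neg, T.cond, neg_zero]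
  have hθ : I₃.cocomplex.d n (n + 1) ≫ T.hex.descToInjective _ he =
      -(T.θ ≫ I₁.cocomplex.d (n + 1) (n + 2)) := T.hex.comp_descToInjective _ he
  refine ⟨⟨T.hex.descToInjective _ he, _, I₃.cocomplex.d n (n + 1),
    I₃.cocomplex.d_comp_d _ _ _, I₃.exact_succ n, ?_⟩, hθ⟩
  erw [reassoc_of% hθ]
  rw [Preadditive.neg_comp, Category.assoc]
  erw [HomologicalComplex.d_comp_d, comp_zero, neg_zero]

lemma exists_zero (hS : S.ShortExact) :
    ∃ (β : S.X₂ ⟶ I₁.cocomplex.X 0) (T : Th I₁ I₃ 0), S.f ≫ β = aug I₁ ∧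
      β ≫ I₁.cocomplex.d 0 1 + S.g ≫ aug I₃ ≫ T.θ = 0 := by
  haveI := hS.mono_f
  haveI := hS.epi_g
  let β : S.X₂ ⟶ I₁.cocomplex.X 0 := Injective.factorThru (aug I₁) S.f
  have hβ : S.f ≫ β = aug I₁ := Injective.comp_factorThru _ _
  have h0 : S.f ≫ β ≫ I₁.cocomplex.d 0 1 = 0 := by rw [reassoc_of% hβ, aug_d]
  let γ : S.X₃ ⟶ I₁.cocomplex.X 1 := hS.exact.desc _ h0
  have hγ : S.g ≫ γ = β ≫ I₁.cocomplex.d 0 1 := hS.exact.g_desc _ _
  let θ : I₃.cocomplex.X 0 ⟶ I₁.cocomplex.X 1 := Injective.factorThru (-γ) (aug I₃)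
  have hθ : aug I₃ ≫ θ = -γ := Injective.comp_factorThru _ _
  refine ⟨β, ⟨θ, _, aug I₃, aug_d I₃, aug_exact I₃, ?_⟩, hβ, ?_⟩
  · rw [reassoc_of% hθ, Preadditive.neg_comp, neg_eq_zero, ← cancel_epi S.g, comp_zero,
      reassoc_of% hγ, HomologicalComplex.d_comp_d, comp_zero]
  · rw [hθ, Preadditive.comp_neg, hγ, add_neg_cancel]

variable (θ : ∀ n, I₃.cocomplex.X n ⟶ I₁.cocomplex.X (n + 1))

/-- The twisted differential. -/
def D (n : ℕ) : I₁.cocomplex.X n ⊞ I₃.cocomplex.X n ⟶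
    I₁.cocomplex.X (n + 1) ⊞ I₃.cocomplex.X (n + 1) :=
  biprod.fst ≫ I₁.cocomplex.d n (n + 1) ≫ biprod.inl + biprod.snd ≫ θ n ≫ biprod.inl +
    biprod.snd ≫ I₃.cocomplex.d n (n + 1) ≫ biprod.inr

@[reassoc]
lemma inl_D (n : ℕ) :
    biprod.inl ≫ D I₁ I₃ θ n = I₁.cocomplex.d n (n + 1) ≫ biprod.inl := by
  simp [D]

@[reassoc]
lemma D_snd (n : ℕ) :
    D I₁ I₃ θ n ≫ biprod.snd = biprod.snd ≫ I₃.cocomplex.d n (n + 1) := by
  simp [D]

@[reassoc]
lemma D_fst (n : ℕ) :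
    D I₁ I₃ θ n ≫ biprod.fst = biprod.fst ≫ I₁.cocomplex.d n (n + 1) + biprod.snd ≫ θ n := by
  simp [D]

variable (hθ : ∀ n, I₃.cocomplex.d n (n + 1) ≫ θ (n + 1) =
  -(θ n ≫ I₁.cocomplex.d (n + 1) (n + 2)))

include hθ in
lemma D_sq (n : ℕ) : D I₁ I₃ θ n ≫ D I₁ I₃ θ (n + 1) = 0 := by
  apply biprod.hom_ext
  · rw [Category.assoc, D_fst, zero_comp, Preadditive.comp_add, D_fst_assoc, D_snd_assoc,
      Preadditive.add_comp, Category.assoc, HomologicalComplex.d_comp_d, comp_zero, zero_add,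
      hθ, Preadditive.comp_neg, Category.assoc, add_neg_cancel]
  · rw [Category.assoc, D_snd, zero_comp, D_snd_assoc, HomologicalComplex.d_comp_d, comp_zero]

/-- The twisted complex. -/
def mid : CochainComplex C ℕ :=
  CochainComplex.of (fun n => I₁.cocomplex.X n ⊞ I₃.cocomplex.X n) (D I₁ I₃ θ) (D_sq I₁ I₃ θ hθ)

lemma mid_d (n : ℕ) : (mid I₁ I₃ θ hθ).d n (n + 1) = D I₁ I₃ θ n :=
  CochainComplex.of_d _ (D I₁ I₃ θ) n

/-- The inclusion. -/
def midInl : I₁.cocomplex ⟶ mid I₁ I₃ θ hθ where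
  f n := biprod.inl
  comm' := by
    rintro i j (rfl : i + 1 = j)
    erw [mid_d, inl_D]
    rfl

/-- The projection. -/
def midSnd : mid I₁ I₃ θ hθ ⟶ I₃.cocomplex where
  f n := biprod.snd
  comm' := by
    rintro i j (rfl : i + 1 = j)
    erw [mid_d, D_snd]
    rfl

lemma midInl_midSnd : midInl I₁ I₃ θ hθ ≫ midSnd I₁ I₃ θ hθ = 0 :=
  HomologicalComplex.hom_ext _ _ fun _ => biprod.inl_snd

lemma mid_shortExact :
    (ShortComplex.mk _ _ (midInl_midSnd I₁ I₃ θ hθ)).ShortExact := by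
  apply HomologicalComplex.shortExact_of_degreewise_shortExact
  intro n
  exact (ShortComplex.Splitting.ofHasBinaryBiproduct (I₁.cocomplex.X n) (I₃.cocomplex.X n)).shortExact

lemma mid_exactAt (n : ℕ) : (mid I₁ I₃ θ hθ).ExactAt (n + 1) := by
  rw [HomologicalComplex.exactAt_iff_isZero_homology]
  exact ((mid_shortExact I₁ I₃ θ hθ).homology_exact₂ (n + 1)).isZero_of_both_zeros
    (((HomologicalComplex.exactAt_iff_isZero_homology _ _).mp
      (I₁.cocomplex_exactAt_succ n)).eq_of_src _ _)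
    (((HomologicalComplex.exactAt_iff_isZero_homology _ _).mp
      (I₃.cocomplex_exactAt_succ n)).eq_of_tgt _ _)

end

variable (hS : S.ShortExact) (I₁ : InjectiveResolution S.X₁) (I₃ : InjectiveResolution S.X₃)

include hS in
lemma aug_mid {β : S.X₂ ⟶ I₁.cocomplex.X 0} {θ : ∀ n, I₃.cocomplex.X n ⟶ I₁.cocomplex.X (n + 1)}
    (hβ : S.f ≫ β = aug I₁) (h0 : β ≫ I₁.cocomplex.d 0 1 + S.g ≫ aug I₃ ≫ θ 0 = 0) :
    ∃ w : biprod.lift β (S.g ≫ aug I₃) ≫ D I₁ I₃ θ 0 = 0,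
      (ShortComplex.mk _ _ w).Exact ∧ Mono (biprod.lift β (S.g ≫ aug I₃)) := by
  have hi : S.f ≫ biprod.lift β (S.g ≫ aug I₃) = aug I₁ ≫ biprod.inl := by
    apply biprod.hom_ext <;> simp [hβ]
  have w : biprod.lift β (S.g ≫ aug I₃) ≫ D I₁ I₃ θ 0 = 0 := by
    apply biprod.hom_ext
    · simp only [Category.assoc, D_fst, zero_comp, Preadditive.comp_add, biprod.lift_fst_assoc,
        biprod.lift_snd_assoc]
      exact h0
    · simp [D_snd]
  refine ⟨w, ?_, ?_⟩
  · rw [ShortComplex.exact_iff_exact_up_to_refinements]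
    intro A k hk
    change k ≫ D I₁ I₃ θ 0 = 0 at hk
    have h3 : (k ≫ biprod.snd) ≫ I₃.cocomplex.d 0 1 = 0 := by
      rw [Category.assoc, ← D_snd I₁ I₃ θ 0, reassoc_of% hk, zero_comp]
    haveI := hS.epi_g
    obtain ⟨k₃, hk₃⟩ := (aug_exact I₃).lift' _ h3
    change k₃ ≫ aug I₃ = k ≫ biprod.snd at hk₃
    obtain ⟨A', π, hπ, k₂, hk₂⟩ := surjective_up_to_refinements_of_epi S.g k₃
    haveI := hπ
    let m := π ≫ k - k₂ ≫ biprod.lift β (S.g ≫ aug I₃)
    have hm2 : m ≫ biprod.snd = 0 := by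
      simp only [m, Preadditive.sub_comp, Category.assoc, biprod.lift_snd]
      rw [← hk₃, reassoc_of% hk₂, sub_self]
    have hm1 : (m ≫ biprod.fst) ≫ I₁.cocomplex.d 0 1 = 0 := by
      have hmD : m ≫ D I₁ I₃ θ 0 = 0 := by
        simp only [m, Preadditive.sub_comp, Category.assoc, hk, w, comp_zero, sub_self]
      have := congrArg (· ≫ biprod.fst) hmD
      simp only [Category.assoc, D_fst, Preadditive.comp_add, zero_comp] at this
      rwa [reassoc_of% hm2, zero_comp, add_zero, ← Category.assoc] at this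
    obtain ⟨k₁, hk₁⟩ := (aug_exact I₁).lift' _ hm1
    change k₁ ≫ aug I₁ = m ≫ biprod.fst at hk₁
    refine ⟨A', π, hπ, k₂ + k₁ ≫ S.f, ?_⟩
    have hm : m = k₁ ≫ aug I₁ ≫ biprod.inl := by
      apply biprod.hom_ext <;> simp [hk₁, hm2]
    change π ≫ k = _
    rw [Preadditive.add_comp, Category.assoc, hi, ← hm]
    simp [m]
  · haveI := hS.mono_f
    refine Preadditive.mono_of_cancel_zero _ fun {A} x hx => ?_
    have h2 : x ≫ S.g = 0 := by
      have := congrArg (· ≫ biprod.snd) hx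
      simp only [Category.assoc, biprod.lift_snd, zero_comp] at this
      rwa [← Category.assoc, ← zero_comp (f := aug I₃), cancel_mono] at this
    obtain ⟨x₁, hx₁⟩ := hS.exact.lift' x h2
    rw [← hx₁, Category.assoc, hi, ← zero_comp (f := aug I₁ ≫ biprod.inl), cancel_mono] at hx
    rw [← hx₁, hx, zero_comp]

include hS in
/-- The horseshoe lemma, for given resolutions of the outer terms. -/
theorem exists_sesRes : ∃ T : RDer.SESRes S, T.I₁ = I₁ ∧ T.I₃ = I₃ := by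
  obtain ⟨β, T₀, hβ, h0⟩ := exists_zero I₁ I₃ hS
  choose next hnext using fun n (T : Th I₁ I₃ n) => T.exists_next
  let Ts : ∀ n, Th I₁ I₃ n := fun n => Nat.rec T₀ (fun k T => next k T) n
  let θ : ∀ n, I₃.cocomplex.X n ⟶ I₁.cocomplex.X (n + 1) := fun n => (Ts n).θ
  have hθ : ∀ n, I₃.cocomplex.d n (n + 1) ≫ θ (n + 1) =
      -(θ n ≫ I₁.cocomplex.d (n + 1) (n + 2)) := fun n => hnext n (Ts n)
  obtain ⟨w, hex, hmono⟩ := aug_mid hS I₁ I₃ (θ := θ) hβ h0
  have w' : biprod.lift β (S.g ≫ aug I₃) ≫ (mid I₁ I₃ θ hθ).d 0 1 = 0 := by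
    erw [mid_d I₁ I₃ θ hθ 0]
    exact w
  let I₂ : InjectiveResolution S.X₂ :=
    { cocomplex := mid I₁ I₃ θ hθ
      injective := fun n => inferInstanceAs (Injective (I₁.cocomplex.X n ⊞ I₃.cocomplex.X n))
      ι := (CochainComplex.fromSingle₀Equiv _ _).symm ⟨biprod.lift β (S.g ≫ aug I₃), w'⟩
      quasiIso := ⟨fun n => by
        cases n
        · rw [CochainComplex.quasiIsoAt₀_iff, ShortComplex.quasiIso_iff_of_zeros]
          · refine (ShortComplex.exact_and_mono_f_iff_of_iso ?_).2 ⟨hex, hmono⟩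
            exact ShortComplex.isoMk (Iso.refl _) (Iso.refl _) (Iso.refl _)
              (by simp only [Iso.refl_hom]; erw [Category.id_comp, Category.comp_id]; simp)
              (by simp only [Iso.refl_hom]; erw [Category.id_comp, Category.comp_id]
                  exact (mid_d I₁ I₃ θ hθ 0).symm)
          all_goals rfl
        · rw [quasiIsoAt_iff_exactAt]
          · exact mid_exactAt I₁ I₃ θ hθ _
          · apply CochainComplex.exactAt_succ_single_obj⟩ }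
  have hι : I₂.ι.f 0 = biprod.lift β (S.g ≫ aug I₃) :=
    CochainComplex.fromSingle₀Equiv_symm_apply_f_zero _ _
  refine ⟨{ I₁ := I₁, I₂ := I₂, I₃ := I₃
            f := midInl I₁ I₃ θ hθ
            g := midSnd I₁ I₃ θ hθ
            zero := midInl_midSnd I₁ I₃ θ hθ
            ι_f := ?_, ι_g := ?_
            shortExact := mid_shortExact I₁ I₃ θ hθ }, rfl, rfl⟩
  · refine HomologicalComplex.from_single_hom_ext ?_
    simp only [HomologicalComplex.comp_f, CochainComplex.single₀_map_f_zero]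
    erw [hι]
    apply biprod.hom_ext
    · erw [Category.assoc, Category.assoc, biprod.inl_fst, biprod.lift_fst, Category.comp_id, hβ]
      rfl
    · erw [Category.assoc, Category.assoc, biprod.inl_snd, biprod.lift_snd, comp_zero,
        S.zero_assoc, zero_comp]
      rfl
  · refine HomologicalComplex.from_single_hom_ext ?_
    simp only [HomologicalComplex.comp_f, CochainComplex.single₀_map_f_zero]
    erw [hι, biprod.lift_snd]
    rfl

include hS in
theorem nonempty_sesRes [HasInjectiveResolutions C] : Nonempty (RDer.SESRes S) :=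
  let ⟨T, _⟩ := exists_sesRes hS (injectiveResolution S.X₁) (injectiveResolution S.X₃)
  ⟨T⟩

end Groth.Agent.RDerLES
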