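import Groth.Prelude.Def_RDerDelta
import Mathlib.Algebra.Homology.HomologySequenceLemmas

/-!
# Morphisms between injective resolutions of short exact sequences; naturality of `delta`
-/

noncomputable section

universe v u v' u'

open CategoryTheory Limits

namespace Groth.Agent.RDerLES

variable {C : Type u} [Category.{v} C] [Abelian C]

/-- One step of the construction of the middle component of a morphism of resolutions. -/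
lemma lift_step {Y₁ Y₂ Y₃ Z₁ Z₂ Z₃ Y₁' Y₂' Y₃' Z₁' Z₂' Z₃' W A : C}
    {f : Y₁ ⟶ Y₂} {g : Y₂ ⟶ Y₃} {w : f ≫ g = 0} (σ : (ShortComplex.mk f g w).Splitting)
    {fz : Z₁ ⟶ Z₂} {gz : Z₂ ⟶ Z₃} {wz : fz ≫ gz = 0} (τ : (ShortComplex.mk fz gz wz).Splitting)
    {f' : Y₁' ⟶ Y₂'} {g' : Y₂' ⟶ Y₃'}
    {fz' : Z₁' ⟶ Z₂'} {gz' : Z₂' ⟶ Z₃'} {wz' : fz' ≫ gz' = 0}
    (τ' : (ShortComplex.mk fz' gz' wz').Splitting)
    {d₁ : Y₁ ⟶ Z₁} {d₂ : Y₂ ⟶ Z₂} {d₃ : Y₃ ⟶ Z₃} (hd₁ : f ≫ d₂ = d₁ ≫ fz)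
    (hd₂ : d₂ ≫ gz = g ≫ d₃)
    {d₁' : Y₁' ⟶ Z₁'} {d₂' : Y₂' ⟶ Z₂'} {d₃' : Y₃' ⟶ Z₃'} (hd₁' : f' ≫ d₂' = d₁' ≫ fz')
    (hd₂' : d₂' ≫ gz' = g' ≫ d₃')
    {a : Y₁ ⟶ Y₁'} {az : Z₁ ⟶ Z₁'} (ha : d₁ ≫ az = a ≫ d₁')
    {c : Y₃ ⟶ Y₃'} {cz : Z₃ ⟶ Z₃'} (hc : d₃ ≫ cz = c ≫ d₃')
    (b : Y₂ ⟶ Y₂') (hb₁ : f ≫ b = a ≫ f') (hb₂ : b ≫ g' = g ≫ c)
    (ω : W ⟶ Y₂) (ω₃ : A ⟶ Y₃) (q : W ⟶ A) [Epi q] (hω : q ≫ ω₃ = ω ≫ g) (hω₀ : ω ≫ d₂ = 0)
    (hb₀ : ω ≫ b ≫ d₂' = 0) (w₃ : ω₃ ≫ d₃ = 0) (hex : (ShortComplex.mk ω₃ d₃ w₃).Exact)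
    (hZ : Injective Z₁') :
    ∃ bz : Z₂ ⟶ Z₂', d₂ ≫ bz = b ≫ d₂' ∧ fz ≫ bz = az ≫ fz' ∧ bz ≫ gz' = gz ≫ cz := by
  have hr : fz ≫ τ.r = 𝟙 Z₁ := τ.f_r
  have hs' : τ'.s ≫ gz' = 𝟙 Z₃' := τ'.s_g
  have hid' : τ'.r ≫ fz' + gz' ≫ τ'.s = 𝟙 Z₂' := τ'.id
  have hid : σ.r ≫ f + g ≫ σ.s = 𝟙 Y₂ := σ.id
  have wz'' : fz' ≫ gz' = 0 := wz'
  let b₀ : Z₂ ⟶ Z₂' := τ.r ≫ az ≫ fz' + gz ≫ cz ≫ τ'.s
  have hb0f : fz ≫ b₀ = az ≫ fz' := by
    simp only [b₀, Preadditive.comp_add, reassoc_of% hr, reassoc_of% wz, zero_comp, add_zero]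
  have hb0g : b₀ ≫ gz' = gz ≫ cz := by
    simp only [b₀, Preadditive.add_comp, Category.assoc, wz'', comp_zero, zero_add, hs',
      Category.comp_id]
  let E : Y₂ ⟶ Z₂' := b ≫ d₂' - d₂ ≫ b₀
  have hEf : f ≫ E = 0 := by
    simp only [E, Preadditive.comp_sub, reassoc_of% hb₁, hd₁', reassoc_of% hd₁, hb0f,
      reassoc_of% ha, sub_self]
  have hEg : E ≫ gz' = 0 := by
    simp only [E, Preadditive.sub_comp, Category.assoc, hd₂', hb0g, reassoc_of% hb₂,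
      reassoc_of% hd₂, hc, sub_self]
  let e : Y₃ ⟶ Z₁' := σ.s ≫ E ≫ τ'.r
  have hge : g ≫ e ≫ fz' = E := by
    have h1 : g ≫ σ.s ≫ E = E := by
      conv_rhs => rw [← Category.id_comp E, ← hid]
      rw [Preadditive.add_comp, Category.assoc, hEf, comp_zero, zero_add, Category.assoc]
    have h2 : E ≫ τ'.r ≫ fz' = E := by
      conv_rhs => rw [← Category.comp_id E, ← hid']
      rw [Preadditive.comp_add, reassoc_of% hEg, zero_comp, add_zero]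
    simp only [e, Category.assoc, h2, h1]
  have hωE : ω ≫ E = 0 := by
    simp only [E, Preadditive.comp_sub, hb₀, reassoc_of% hω₀, zero_comp, sub_self]
  have hke : ω₃ ≫ e = 0 := by
    have h1 : g ≫ σ.s ≫ E = E := by
      conv_rhs => rw [← Category.id_comp E, ← hid]
      rw [Preadditive.add_comp, Category.assoc, hEf, comp_zero, zero_add, Category.assoc]
    rw [← cancel_epi q, comp_zero, reassoc_of% hω]
    simp only [e]
    rw [show ω ≫ g ≫ σ.s ≫ E ≫ τ'.r = (ω ≫ g ≫ σ.s ≫ E) ≫ τ'.r by simp only [Category.assoc],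
      h1, hωE, zero_comp]
  haveI := hZ
  let h : Z₃ ⟶ Z₁' := hex.descToInjective e hke
  have hh : d₃ ≫ h = e := hex.comp_descToInjective e hke
  refine ⟨b₀ + gz ≫ h ≫ fz', ?_, ?_, ?_⟩
  · rw [Preadditive.comp_add, reassoc_of% hd₂, reassoc_of% hh, hge]
    simp only [E, add_sub_cancel]
  · rw [Preadditive.comp_add, hb0f, reassoc_of% wz, zero_comp, add_zero]
  · rw [Preadditive.add_comp, hb0g]
    simp only [Category.assoc, wz'', comp_zero, add_zero]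

/-- The augmentation of an injective resolution, as a map out of the object. -/
def aug {X : C} (I : InjectiveResolution X) : X ⟶ I.cocomplex.X 0 := I.ι.f 0

instance {X : C} (I : InjectiveResolution X) : Mono (aug I) := inferInstanceAs (Mono (I.ι.f 0))

@[reassoc (attr := simp)]
lemma aug_d {X : C} (I : InjectiveResolution X) : aug I ≫ I.cocomplex.d 0 1 = 0 :=
  I.ι_f_zero_comp_complex_d

lemma aug_exact {X : C} (I : InjectiveResolution X) :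
    (ShortComplex.mk (aug I) (I.cocomplex.d 0 1) (aug_d I)).Exact :=
  ShortComplex.exact_of_f_is_kernel _ I.isLimitKernelFork

section Hom

lemma aug_f {S : ShortComplex C} (T : RDer.SESRes S) :
    aug T.I₁ ≫ T.f.f 0 = S.f ≫ aug T.I₂ := by
  have := HomologicalComplex.congr_hom T.ι_f 0
  simpa [aug] using this

lemma aug_g {S : ShortComplex C} (T : RDer.SESRes S) :
    aug T.I₂ ≫ T.g.f 0 = S.g ≫ aug T.I₃ := by
  have := HomologicalComplex.congr_hom T.ι_g 0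
  simpa [aug] using this

variable {S S' : ShortComplex C} (hS : S.ShortExact) (T : RDer.SESRes S) (T' : RDer.SESRes S')
  (φ : S ⟶ S') (a : T.I₁.cocomplex ⟶ T'.I₁.cocomplex) (c : T.I₃.cocomplex ⟶ T'.I₃.cocomplex)

/-- Auxiliary data in one degree. -/
structure Deg (n : ℕ) where
  /-- the component -/
  b : T.I₂.cocomplex.X n ⟶ T'.I₂.cocomplex.X n
  hf : T.f.f n ≫ b = a.f n ≫ T'.f.f n
  hg : b ≫ T'.g.f n = T.g.f n ≫ c.f n
  W : C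
  A : C
  ω : W ⟶ T.I₂.cocomplex.X n
  ω₃ : A ⟶ T.I₃.cocomplex.X n
  q : W ⟶ A
  q_epi : Epi q
  hω : q ≫ ω₃ = ω ≫ T.g.f n
  hω₀ : ω ≫ T.I₂.cocomplex.d n (n + 1) = 0
  hb₀ : ω ≫ b ≫ T'.I₂.cocomplex.d n (n + 1) = 0
  w₃ : ω₃ ≫ T.I₃.cocomplex.d n (n + 1) = 0
  hex : (ShortComplex.mk ω₃ (T.I₃.cocomplex.d n (n + 1)) w₃).Exact

lemma exists_next {n : ℕ} (D : Deg T T' a c n) :
    ∃ D' : Deg T T' a c (n + 1),
      T.I₂.cocomplex.d n (n + 1) ≫ D'.b = D.b ≫ T'.I₂.cocomplex.d n (n + 1) := by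
  haveI := D.q_epi
  obtain ⟨bz, h1, h2, h3⟩ := lift_step (T.splitting n) (T.splitting (n + 1))
    (T'.splitting (n + 1)) (f' := T'.f.f n) (g' := T'.g.f n)
    (T.f.comm n (n + 1)) (T.g.comm n (n + 1)).symm
    (T'.f.comm n (n + 1)) (T'.g.comm n (n + 1)).symm
    (a.comm n (n + 1)).symm (c.comm n (n + 1)).symm D.b D.hf D.hg D.ω D.ω₃ D.q D.hω D.hω₀ D.hb₀
    D.w₃ D.hex (T'.I₁.injective (n + 1))
  have : Epi (T.g.f n) :=
    (T.shortExact.map_of_exact (HomologicalComplex.eval C _ n)).epi_g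
  refine ⟨⟨bz, h2, h3, _, _, T.I₂.cocomplex.d n (n + 1), T.I₃.cocomplex.d n (n + 1), T.g.f n, this,
    T.g.comm n (n + 1), T.I₂.cocomplex.d_comp_d _ _ _, ?_, T.I₃.cocomplex.d_comp_d _ _ _,
    T.I₃.exact_succ n⟩, h1⟩
  erw [reassoc_of% h1, HomologicalComplex.d_comp_d, comp_zero]
  all_goals rfl

variable (ha : T.I₁.ι.f 0 ≫ a.f 0 = φ.τ₁ ≫ T'.I₁.ι.f 0)
  (hc : T.I₃.ι.f 0 ≫ c.f 0 = φ.τ₃ ≫ T'.I₃.ι.f 0)

include hS ha hc in
lemma exists_deg_zero : ∃ D : Deg T T' a c 0, aug T.I₂ ≫ D.b = φ.τ₂ ≫ aug T'.I₂ := by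
  let τ := T.splitting 0
  let τ' := T'.splitting 0
  have wz : T.f.f 0 ≫ T.g.f 0 = 0 := by
    rw [← HomologicalComplex.comp_f, T.zero, HomologicalComplex.zero_f]
  have wz' : T'.f.f 0 ≫ T'.g.f 0 = 0 := by
    rw [← HomologicalComplex.comp_f, T'.zero, HomologicalComplex.zero_f]
  have e1 := aug_f T
  have e2 := aug_g T
  have e1' := aug_f T'
  have e2' := aug_g T'
  replace ha : aug T.I₁ ≫ a.f 0 = φ.τ₁ ≫ aug T'.I₁ := ha
  replace hc : aug T.I₃ ≫ c.f 0 = φ.τ₃ ≫ aug T'.I₃ := hc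
  let r : T.I₂.cocomplex.X 0 ⟶ T.I₁.cocomplex.X 0 := τ.r
  let r' : T'.I₂.cocomplex.X 0 ⟶ T'.I₁.cocomplex.X 0 := τ'.r
  let s' : T'.I₃.cocomplex.X 0 ⟶ T'.I₂.cocomplex.X 0 := τ'.s
  let b₀ := r ≫ a.f 0 ≫ T'.f.f 0 + T.g.f 0 ≫ c.f 0 ≫ s'
  have hr : T.f.f 0 ≫ r = 𝟙 _ := τ.f_r
  have hs' : s' ≫ T'.g.f 0 = 𝟙 _ := τ'.s_g
  have hid' : r' ≫ T'.f.f 0 + T'.g.f 0 ≫ s' = 𝟙 _ := τ'.id
  have hb0f : T.f.f 0 ≫ b₀ = a.f 0 ≫ T'.f.f 0 := by
    simp only [b₀, Preadditive.comp_add, reassoc_of% hr, reassoc_of% wz, zero_comp, add_zero]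
  have hb0g : b₀ ≫ T'.g.f 0 = T.g.f 0 ≫ c.f 0 := by
    simp only [b₀, Preadditive.add_comp, Category.assoc, wz', comp_zero, zero_add, hs',
      Category.comp_id]
  let E : S.X₂ ⟶ T'.I₂.cocomplex.X 0 :=
    φ.τ₂ ≫ aug T'.I₂ - aug T.I₂ ≫ b₀
  have hEf : S.f ≫ E = 0 := by
    simp only [E, Preadditive.comp_sub]
    rw [← reassoc_of% e1, hb0f, reassoc_of% ha, e1', ← φ.comm₁₂_assoc, sub_self]
  have hEg : E ≫ T'.g.f 0 = 0 := by
    simp only [E, Preadditive.sub_comp, Category.assoc, e2', hb0g, reassoc_of% e2, hc]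
    rw [φ.comm₂₃_assoc, sub_self]
  haveI := hS.epi_g
  let e : S.X₃ ⟶ T'.I₁.cocomplex.X 0 := hS.exact.desc (E ≫ r') (by rw [reassoc_of% hEf, zero_comp])
  have he : S.g ≫ e = E ≫ r' := hS.exact.g_desc _ _
  let h : T.I₃.cocomplex.X 0 ⟶ T'.I₁.cocomplex.X 0 :=
    Injective.factorThru e (aug T.I₃)
  have hh : aug T.I₃ ≫ h = e := Injective.comp_factorThru _ _
  have hιb : aug T.I₂ ≫ (b₀ + T.g.f 0 ≫ h ≫ T'.f.f 0) = φ.τ₂ ≫ aug T'.I₂ := by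
    have h2 : E ≫ r' ≫ T'.f.f 0 = E := by
      conv_rhs => rw [← Category.comp_id E, ← hid']
      rw [Preadditive.comp_add, reassoc_of% hEg, zero_comp, add_zero]
    rw [Preadditive.comp_add, reassoc_of% e2, reassoc_of% hh, reassoc_of% he, h2]
    simp only [E, add_sub_cancel]
  refine ⟨⟨b₀ + T.g.f 0 ≫ h ≫ T'.f.f 0, ?_, ?_, _, _, aug T.I₂, aug T.I₃, S.g, hS.epi_g,
    e2.symm, aug_d _, ?_, aug_d _, aug_exact _⟩, hιb⟩
  · rw [Preadditive.comp_add, hb0f, reassoc_of% wz, zero_comp, add_zero]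
  · rw [Preadditive.add_comp, hb0g]
    simp only [Category.assoc, wz', comp_zero, add_zero]
  · rw [reassoc_of% hιb]
    erw [aug_d]
    exact comp_zero

include hS ha hc in
/-- Maps of the outer resolutions extend to a map of the resolutions of the sequences. -/
theorem exists_hom : ∃ b : T.I₂.cocomplex ⟶ T'.I₂.cocomplex,
    T.f ≫ b = a ≫ T'.f ∧ b ≫ T'.g = T.g ≫ c ∧ T.I₂.ι.f 0 ≫ b.f 0 = φ.τ₂ ≫ T'.I₂.ι.f 0 := by
  obtain ⟨D₀, hD₀⟩ := exists_deg_zero hS T T' φ a c ha hc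
  choose next hnext using fun n (D : Deg T T' a c n) => exists_next T T' a c D
  let Ds : ∀ n, Deg T T' a c n := fun n => Nat.rec D₀ (fun k D => next k D) n
  refine ⟨{ f := fun n => (Ds n).b
            comm' := ?_ }, ?_, ?_, hD₀⟩
  · rintro i j (rfl : i + 1 = j)
    exact (hnext i (Ds i)).symm
  · exact HomologicalComplex.hom_ext _ _ fun n => (Ds n).hf
  · exact HomologicalComplex.hom_ext _ _ fun n => (Ds n).hg

end Hom

variable [HasInjectiveResolutions C] {D : Type u'} [Category.{v'} D] [Abelian D] (F : C ⥤ D)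
  [F.Additive]

/-- `delta` is natural, for any choice of resolutions. -/
theorem delta_naturality {S S' : ShortComplex C} (hS : S.ShortExact) (T : RDer.SESRes S)
    (T' : RDer.SESRes S') (φ : S ⟶ S') (n₀ n₁ : ℕ) (h : n₀ + 1 = n₁) :
    (F.rightDerived n₀).map φ.τ₃ ≫ T'.delta F n₀ n₁ h =
      T.delta F n₀ n₁ h ≫ (F.rightDerived n₁).map φ.τ₁ := by
  let a := InjectiveResolution.desc φ.τ₁ T'.I₁ T.I₁
  let c := InjectiveResolution.desc φ.τ₃ T'.I₃ T.I₃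
  have ha : T.I₁.ι.f 0 ≫ a.f 0 = φ.τ₁ ≫ T'.I₁.ι.f 0 :=
    InjectiveResolution.desc_commutes_zero φ.τ₁ T'.I₁ T.I₁
  have hc : T.I₃.ι.f 0 ≫ c.f 0 = φ.τ₃ ≫ T'.I₃.ι.f 0 :=
    InjectiveResolution.desc_commutes_zero φ.τ₃ T'.I₃ T.I₃
  obtain ⟨b, hb₁, hb₂, -⟩ := exists_hom hS T T' φ a c ha hc
  let ψ : T.cx ⟶ T'.cx := ⟨a, b, c, hb₁.symm, hb₂⟩
  have hn := HomologicalComplex.HomologySequence.δ_naturality
    ((F.mapHomologicalComplex (ComplexShape.up ℕ)).mapShortComplex.map ψ)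
    (T.map_shortExact F) (T'.map_shortExact F) n₀ n₁ h
  rw [← cancel_mono (T'.I₁.isoRightDerivedObj F n₁).hom, Category.assoc, Category.assoc,
    T'.delta_comp_isoRightDerivedObj_hom F n₀ n₁ h,
    InjectiveResolution.isoRightDerivedObj_hom_naturality φ.τ₁ T.I₁ T'.I₁ a ha F n₁]
  erw [reassoc_of% (T.delta_comp_isoRightDerivedObj_hom F n₀ n₁ h)]
  erw [reassoc_of% (InjectiveResolution.isoRightDerivedObj_hom_naturality φ.τ₃ T.I₃ T'.I₃ c hc F n₀)]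
  exact (congrArg ((T.I₃.isoRightDerivedObj F n₀).hom ≫ ·) hn.symm).trans
    (Category.assoc _ _ _).symm

/-- `delta` does not depend on the resolution. -/
theorem delta_eq {S : ShortComplex C} (hS : S.ShortExact) (T T' : RDer.SESRes S) (n₀ n₁ : ℕ)
    (h : n₀ + 1 = n₁) : T.delta F n₀ n₁ h = T'.delta F n₀ n₁ h := by
  have := delta_naturality F hS T T' (𝟙 S) n₀ n₁ h
  simp only [ShortComplex.id_τ₁, ShortComplex.id_τ₃, CategoryTheory.Functor.map_id,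
    Category.id_comp, Category.comp_id] at this
  exact this.symm

end Groth.Agent.RDerLES
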